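import Mathlib
import Cfsg.Agent.Solvable.Glauberman

/-!
# A `D`-invariant Sylow subgroup opposite to `P` (S5258, rank one parts)
-/

set_option autoImplicit false

namespace Cfsg.Agent.H302.PU

/-- If `P` is transitive on the other Sylow `p`-subgroups, a `p'`-group `D` normalizing `P` normalizes another one. -/
theorem exists_inv_sylow {G : Type*} [Group G] [Finite G] {p : ℕ} [Fact p.Prime] (P : Sylow p G) (D : Subgroup G)
    (hD : D ≤ Subgroup.normalizer ((P : Subgroup G) : Set G)) (hDp : (Nat.card D).Coprime p)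
    (h1 : ∀ P' P'' : Sylow p G, P' ≠ P → P'' ≠ P → ∃ x ∈ (P : Subgroup G),
      (P' : Subgroup G).map (MulAut.conj x).toMonoidHom = P'')
    (hn : ¬ (P : Subgroup G).Normal) :
    ∃ P' : Sylow p G, P' ≠ P ∧ D ≤ Subgroup.normalizer ((P' : Subgroup G) : Set G) := by
  -- another Sylow subgroup
  obtain ⟨P', hP'⟩ : ∃ P' : Sylow p G, P' ≠ P := by
    by_contra hcon
    push Not at hcon
    apply hn
    have h2 : Subsingleton (Sylow p G) := ⟨fun a b => (hcon a).trans (hcon b).symm⟩
    exact P.normal_of_subsingleton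
  have hne : ∀ d ∈ Subgroup.normalizer ((P : Subgroup G) : Set G), d • P' ≠ P := by
    intro d hd h2
    apply hP'
    have h3 : d • P = P := Sylow.smul_eq_iff_mem_normalizer.2 hd
    exact (MulAction.injective d) (h2.trans h3.symm)
  have hsolv : Group.IsSolvable (P : Subgroup G) := by
    have := (P.isPGroup' : IsPGroup p (P : Subgroup G)).isNilpotent
    infer_instance
  obtain ⟨n, hn'⟩ := IsPGroup.iff_card.1 P.isPGroup'
  obtain ⟨k, hk, hfix⟩ := Cfsg.Agent.Solvable.Glauberman.exists_smul_fixed D (P : Subgroup G) hD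
    (by rw [hn']; exact hDp.pow_right n) (Or.inr hsolv) (X := Sylow p G) P' (by
      intro a ha
      obtain ⟨x, hx, hx2⟩ := h1 P' (a • P') hP' (hne a (hD ha))
      refine ⟨x, hx, ?_⟩
      symm
      apply Sylow.ext
      rw [← hx2]
      rfl)
  refine ⟨k • P', hne k (Subgroup.le_normalizer hk), fun d hd => ?_⟩
  exact Sylow.smul_eq_iff_mem_normalizer.1 (hfix d hd)

end Cfsg.Agent.H302.PU
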