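import Cfsg.Agent.H910.PU.Psu

/-!
# The torus of `PSU(3,3)`: an element of order 8 normalizing a Sylow 3-subgroup (for S5258, StU3)
-/

set_option autoImplicit false

namespace Cfsg.Agent.H302.PU

open Subgroup Matrix Cfsg Cfsg.Agent.H664.R1 Cfsg.Agent.H664.R1.U3 Cfsg.Agent.LieRecognition.PSUThreeSylow

/-- some `h` normalizes `P` and `h ^ k` does not centralize `P / Z(P)` for `0 < k < 8` -/
def E8 {G : Type*} [Group G] (P : Subgroup G) : Prop :=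
  ∃ h ∈ Subgroup.normalizer (P : Set G), ∀ k : ℕ, 0 < k → k < 8 → ∃ x ∈ P, ∃ y ∈ P,
    (h ^ k * x * (h ^ k)⁻¹ * x⁻¹) * y ≠ y * (h ^ k * x * (h ^ k)⁻¹ * x⁻¹)

theorem E8.map {G G' : Type*} [Group G] [Group G'] {P : Subgroup G} (hP : E8 P) (e : G ≃* G') :
    E8 (P.map e.toMonoidHom) := by
  obtain ⟨h, hh, H⟩ := hP
  refine ⟨e h, ?_, ?_⟩
  · rw [Subgroup.mem_normalizer_iff] at hh ⊢
    intro z
    obtain ⟨y, rfl⟩ := e.surjective z
    have h1 : ∀ a : G, e a ∈ P.map e.toMonoidHom ↔ a ∈ P := by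
      intro a
      constructor
      · rintro ⟨b, hb, hba⟩
        rwa [← e.injective hba]
      · intro ha
        exact ⟨a, ha, rfl⟩
    rw [← map_inv, ← map_mul, ← map_mul, h1, h1]
    exact hh y
  · intro k hk hk8
    obtain ⟨x, hx, y, hy, hxy⟩ := H k hk hk8
    refine ⟨e x, ⟨x, hx, rfl⟩, e y, ⟨y, hy, rfl⟩, ?_⟩
    intro h1
    apply hxy
    apply e.injective
    simpa only [map_mul, map_inv, map_pow] using h1

section

variable {F : Type*} [Field F] {σ : F →+* F} [hσ : Fact (∀ x, σ (σ x) = x)]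

theorem dg_pow (t : F) (ht : t ≠ 0) (k : ℕ) : (dg t (σ t / t) ht (dgS_rel ht)) ^ k =
    dg (t ^ k) (σ (t ^ k) / t ^ k) (pow_ne_zero k ht) (dgS_rel (pow_ne_zero k ht)) := by
  induction k with
  | zero =>
    apply mat_inj
    rw [pow_zero, mat_one, mat_dg]
    ext i j
    fin_cases i <;> fin_cases j <;> simp
  | succ k ih =>
    rw [pow_succ, ih]
    apply mat_inj
    rw [mat_mul, mat_dg, mat_dg, mat_dg]
    have h0 : σ t ≠ 0 := (map_ne_zero σ).2 ht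
    ext i j
    fin_cases i <;> fin_cases j <;> simp [Matrix.mul_apply, Fin.sum_univ_three, pow_succ]
    · field_simp
    · field_simp

theorem e8_US {t : F} (ht : t ≠ 0) (h8 : ∀ k : ℕ, 0 < k → k < 8 → t ^ k * σ (σ (t ^ k) / t ^ k) ≠ 1)
    (hsnd : ∀ a : F, ∃ b : F, b + σ b + a * σ a = 0) {c0 : F} (hc0 : σ c0 ≠ c0) : E8 (spS σ).U := by
  have hU : ∀ g : GUJ σ, g ∈ Un σ → pr σ g ∈ S σ := fun g hg => ⟨g, Un_le_SUs hg, rfl⟩
  have hD : pr σ (dg t (σ t / t) ht (dgS_rel ht)) ∈ S σ := ⟨_, dgS_mem t ht (dgS_rel ht), rfl⟩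
  refine ⟨⟨_, hD⟩, ?_, ?_⟩
  · -- normalizer
    have key : ∀ (t : F) (ht : t ≠ 0) (hD : pr σ (dg t (σ t / t) ht (dgS_rel ht)) ∈ S σ), ∀ z ∈ (spS σ).U,
        (⟨_, hD⟩ : S σ) * z * (⟨_, hD⟩ : S σ)⁻¹ ∈ (spS σ).U := by
      rintro t ht hD ⟨_, hzS⟩ ⟨u, hu, rfl⟩
      obtain ⟨a, b, h, rfl⟩ := exists_un hu
      refine ⟨_, un_mem _ _ (conj_rel (t := t) (dgS_rel ht) h), ?_⟩
      rw [← dg_conj_un t (σ t / t) ht (dgS_rel ht) a b h]
      simp only [map_mul, map_inv]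
      rfl
    rw [Subgroup.mem_normalizer_iff]
    intro z
    refine ⟨key t ht hD z, fun hz => ?_⟩
    have ht' : t⁻¹ ≠ 0 := inv_ne_zero ht
    have hinv : (dg t (σ t / t) ht (dgS_rel ht))⁻¹ = dg t⁻¹ (σ t⁻¹ / t⁻¹) ht' (dgS_rel ht') := by
      rw [inv_eq_iff_mul_eq_one]
      apply mat_inj
      have h0 : σ t ≠ 0 := (map_ne_zero σ).2 ht
      rw [mat_mul, mat_dg, mat_dg, mat_one]
      ext i j
      fin_cases i <;> fin_cases j <;> simp [Matrix.mul_apply, Fin.sum_univ_three, ht, h0]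
      field_simp
    have hD' : pr σ (dg t⁻¹ (σ t⁻¹ / t⁻¹) ht' (dgS_rel ht')) ∈ S σ := ⟨_, dgS_mem t⁻¹ ht' (dgS_rel ht'), rfl⟩
    have h1 := key t⁻¹ ht' hD' _ hz
    have h2 : (⟨_, hD'⟩ : S σ) = (⟨_, hD⟩ : S σ)⁻¹ := by
      apply Subtype.ext
      show pr σ _ = (pr σ _)⁻¹
      rw [← map_inv, hinv]
    rw [h2] at h1
    have h3 : (⟨_, hD⟩ : S σ)⁻¹ * ((⟨_, hD⟩ : S σ) * z * (⟨_, hD⟩ : S σ)⁻¹) * ((⟨_, hD⟩ : S σ)⁻¹)⁻¹ = z := by group
    rwa [h3] at h1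
  · intro k hk hk8
    obtain ⟨b1, hb1⟩ := hsnd 1
    set c : F := t ^ k * σ (σ (t ^ k) / t ^ k) with hc
    have hc1 : c - 1 ≠ 0 := sub_ne_zero.2 (h8 k hk hk8)
    -- `a` with `(c - 1) σ(a) ≠ σ(c - 1) a`
    set a : F := (c - 1) * c0 with ha
    obtain ⟨b2, hb2⟩ := hsnd a
    refine ⟨⟨pr σ (un 1 b1 hb1), hU _ (un_mem _ _ _)⟩, ⟨_, un_mem _ _ _, rfl⟩,
      ⟨pr σ (un a b2 hb2), hU _ (un_mem _ _ _)⟩, ⟨_, un_mem _ _ _, rfl⟩, ?_⟩
    intro heq
    have h1 := congrArg Subtype.val heq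
    have h2 : pr σ ((dg t (σ t / t) ht (dgS_rel ht)) ^ k * un 1 b1 hb1 * ((dg t (σ t / t) ht (dgS_rel ht)) ^ k)⁻¹ *
        (un 1 b1 hb1)⁻¹ * un a b2 hb2) = pr σ (un a b2 hb2 * ((dg t (σ t / t) ht (dgS_rel ht)) ^ k * un 1 b1 hb1 *
        ((dg t (σ t / t) ht (dgS_rel ht)) ^ k)⁻¹ * (un 1 b1 hb1)⁻¹)) := by
      simp only [map_mul, map_inv, map_pow]
      exact h1
    rw [dg_pow, dg_conj_un _ _ _ _ _ _ _ (conj_rel (dgS_rel (pow_ne_zero k ht)) hb1)] at h2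
    set A : GUJ σ := un (t ^ k * σ (σ (t ^ k) / t ^ k) * 1) (t ^ k * σ (t ^ k) * b1)
      (conj_rel (dgS_rel (pow_ne_zero k ht)) hb1) * (un 1 b1 hb1)⁻¹ with hA
    have hAU : A ∈ Un σ := (Un σ).mul_mem (un_mem _ _ _) ((Un σ).inv_mem (un_mem _ _ _))
    obtain ⟨a', b', hb', hA'⟩ := exists_un hAU
    -- the first coordinate of `A`
    have ha' : a' = c - 1 := by
      have h3 : A * un 1 b1 hb1 = un (t ^ k * σ (σ (t ^ k) / t ^ k) * 1) (t ^ k * σ (t ^ k) * b1)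
          (conj_rel (dgS_rel (pow_ne_zero k ht)) hb1) := by rw [hA, inv_mul_cancel_right]
      rw [hA'] at h3
      have h4 := congrArg (fun g : GUJ σ => mat σ g 0 1) h3
      simp only [mat_mul, mat_un] at h4
      simp [Matrix.mul_apply, Fin.sum_univ_three] at h4
      rw [hc, map_div₀, map_pow, map_pow]
      linear_combination h4
    rw [hA', QuotientGroup.mk'_eq_mk'] at h2
    obtain ⟨z, hz, hz2⟩ := h2
    obtain ⟨⟨⟨z1, z2, z3⟩, z4, z5, z6⟩, z7, z8⟩ := mem_Sc.1 hz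
    have e00 := congrArg (fun g : GUJ σ => mat σ g 0 0) hz2
    have e02 := congrArg (fun g : GUJ σ => mat σ g 0 2) hz2
    simp only [mat_mul, mat_un] at e00 e02
    simp [Matrix.mul_apply, Fin.sum_univ_three, z1, z2, z5, z6] at e00 e02
    have e22 : mat σ z 2 2 = 1 := by rw [← z8, ← z7, e00]
    rw [e22, mul_one, ha', ha, map_mul] at e02
    have h5 : (c - 1) * σ (c - 1) * (σ c0 - c0) = 0 := by linear_combination -e02
    rcases mul_eq_zero.1 h5 with h6 | h6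
    · rcases mul_eq_zero.1 h6 with h7 | h7
      · exact hc1 h7
      · exact hc1 ((map_eq_zero σ).1 h7)
    · exact hc0 (sub_eq_zero.1 h6)

end

theorem e8_of {F : Type*} [Field F] [Fintype F] {q : ℕ} (hF : Fintype.card F = q ^ 2) (hq : q = 3)
    (P : Sylow 3 (Cfsg.PSU 3 F q)) : E8 (P : Subgroup (Cfsg.PSU 3 F q)) := by
  classical
  obtain ⟨σ, hσ, hs, ⟨e⟩⟩ := exists_iso hF
  have hp : Fact (Nat.Prime 3) := ⟨Nat.prime_three⟩
  have hfin : Finite (S σ) := Finite.of_equiv _ e.toEquiv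
  have hU := card_US (σ := σ) hF hs
  have hS := card_S (σ := σ) hF hs
  -- a generator of the multiplicative group
  obtain ⟨g, hg⟩ := IsCyclic.exists_generator (α := Fˣ)
  have hog : orderOf g = 8 := by
    rw [orderOf_eq_card_of_forall_mem_zpowers hg, Nat.card_eq_fintype_card, Fintype.card_units, hF, hq]
    norm_num
  obtain ⟨c0, hc0⟩ := LieClassical.HermBasic.exists_not_fixed hF
  rw [← hs] at hc0
  have h0 : E8 (spS σ).U := by
    refine e8_US (t := (g : F)) g.ne_zero (fun k hk hk8 h1 => ?_) (exists_snd hF hs) hc0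
    rw [map_div₀, hσ.out, hs, hq] at h1
    have h2 : ((g : F) ^ k) ≠ 0 := pow_ne_zero k g.ne_zero
    have h3 : (g : F) ^ k = 1 := by
      field_simp at h1
      exact h1.symm
    have h4 : g ^ k = 1 := by
      apply Units.ext
      rw [Units.val_pow_eq_pow_val, h3, Units.val_one]
    have h5 := Nat.le_of_dvd hk (orderOf_dvd_of_pow_eq_one h4)
    omega
  have hidx : ¬ 3 ∣ (spS σ).U.index := by
    intro hd
    have h1 := (spS σ).U.card_mul_index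
    have h2 : (spS σ).U.index ∣ (q ^ 3 + 1) * (q ^ 2 - 1) := by
      have h3 : Nat.card (spS σ).U * (spS σ).U.index ∣ q ^ 3 * ((q ^ 3 + 1) * (q ^ 2 - 1)) := by
        rw [h1]
        have e2 : q ^ 3 * ((q ^ 3 + 1) * (q ^ 2 - 1)) = (q ^ 3 + 1) * (q ^ 3 * (q ^ 2 - 1)) := by ring
        rw [e2]
        exact hS
      rw [hU] at h3
      exact Nat.dvd_of_mul_dvd_mul_left (by rw [hq]; norm_num) h3
    have h4 := hd.trans h2
    rw [hq] at h4
    norm_num at h4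
  have hpU : IsPGroup 3 (spS σ).U := by
    rw [IsPGroup.iff_card]
    exact ⟨3, by rw [hU, hq]⟩
  let Q : Sylow 3 (S σ) := hpU.toSylow hidx
  have hallQ : ∀ Q' : Sylow 3 (S σ), E8 (Q' : Subgroup (S σ)) := by
    intro Q'
    obtain ⟨g, hg⟩ := MulAction.exists_smul_eq (S σ) Q Q'
    have h1 : (Q' : Subgroup (S σ)) = ((spS σ).U).map (MulAut.conj g).toMonoidHom := by
      rw [← hg]
      rfl
    rw [h1]
    exact h0.map (MulAut.conj g)
  have h1 := hallQ (P.mapSurjective (f := e.toMonoidHom) e.surjective)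
  have h2 : ((P : Subgroup (Cfsg.PSU 3 F q)).map e.toMonoidHom).map e.symm.toMonoidHom = P := by
    rw [Subgroup.map_map]
    have : e.symm.toMonoidHom.comp e.toMonoidHom = MonoidHom.id _ := by
      ext x
      simp
    rw [this, Subgroup.map_id]
  rw [← h2]
  exact E8.map h1 e.symm

/-- an element of order 8 in the Borel subgroup of `PSU(3,3)` acting faithfully on `P / Z(P)` -/
theorem e8 {F : Type*} [Field F] [Fintype F] (hF : Fintype.card F = 3 ^ 2) (P : Sylow 3 (Cfsg.PSU 3 F 3)) :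
    ∃ h ∈ Subgroup.normalizer ((P : Subgroup (Cfsg.PSU 3 F 3)) : Set (Cfsg.PSU 3 F 3)), ∀ k : ℕ, 0 < k → k < 8 →
      ∃ x ∈ (P : Subgroup (Cfsg.PSU 3 F 3)), ∃ y ∈ (P : Subgroup (Cfsg.PSU 3 F 3)),
      (h ^ k * x * (h ^ k)⁻¹ * x⁻¹) * y ≠ y * (h ^ k * x * (h ^ k)⁻¹ * x⁻¹) :=
  e8_of hF rfl P

end Cfsg.Agent.H302.PU
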