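import Cfsg.Agent.H756.PU.Stmts
import Cfsg.Agent.LieClassical.HermBasic

/-!
# The weight lemma for `StL1a` (S5258)
-/

set_option autoImplicit false

namespace Cfsg.Agent.H302.PU

open Cfsg.Agent.H756.PU

universe u

variable {K : Type u} [Field K] [StarRing K]

/-- some element is not fixed by `star` -/
theorem exists_star_ne {p n : ℕ} (h : HypK K p n) : ∃ x : K, star x ≠ x := by
  have := h.fin
  let _ : Fintype K := Fintype.ofFinite K
  have hF : Fintype.card K = (p ^ n) ^ 2 := by rw [← Nat.card_eq_fintype_card, h.card]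
  obtain ⟨x, hx⟩ := LieClassical.HermBasic.exists_not_fixed hF
  exact ⟨x, by rwa [h.star_eq]⟩

omit [StarRing K] in
theorem sq_eq_one_iff_of_side_cond {x : K} (h : x ^ 2 = 1) : x = 1 ∨ x = -1 := by
  have h1 : (x - 1) * (x + 1) = 0 := by linear_combination h
  rcases mul_eq_zero.1 h1 with h2 | h2
  · exact Or.inl (sub_eq_zero.1 h2)
  · exact Or.inr (eq_neg_of_add_eq_zero_left h2)

/-- an element `t ≠ 0` fixed by `star` with `t ^ 2 ≠ 1` if `q > 3` -/
theorem exists_fixed {p n : ℕ} (h : HypK K p n) (hq : 3 < p ^ n) : ∃ t : K, t ≠ 0 ∧ star t = t ∧ t ^ 2 ≠ 1 := by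
  have := h.fin
  let _ : Fintype K := Fintype.ofFinite K
  have hF : Fintype.card K = (p ^ n) ^ 2 := by rw [← Nat.card_eq_fintype_card, h.card]
  by_contra hcon
  push Not at hcon
  have h1 := LieClassical.HermBasic.card_fixed hF
  have h2 : Nat.card {x : K // x ^ (p ^ n) = x} ≤ 3 := by
    have h3 : ∀ x : {x : K // x ^ (p ^ n) = x}, (x : K) ∈ ({0, 1, -1} : Set K) := by
      rintro ⟨x, hx⟩
      by_cases h0 : x = 0
      · left; exact h0
      · right
        have := hcon x h0 (by rw [h.star_eq, hx])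
        rcases sq_eq_one_iff_of_side_cond this with h4 | h4
        · left; exact h4
        · right; exact h4
    have h4 : Nat.card {x : K // x ^ (p ^ n) = x} ≤ Nat.card ({0, 1, -1} : Set K) :=
      Nat.card_le_card_of_injective (fun x => (⟨x, h3 x⟩ : ({0, 1, -1} : Set K))) (fun x y hxy =>
        Subtype.ext (congrArg (fun z : ({0, 1, -1} : Set K) => (z : K)) hxy))
    refine h4.trans ?_
    rw [Nat.card_coe_set_eq]
    refine (Set.ncard_insert_le _ _).trans ?_
    have := Set.ncard_insert_le (1 : K) {-1}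
    rw [Set.ncard_singleton] at this
    omega
  omega

/-- the weight lemma: the coordinate functions of an isotropic complement invariant under the torus -/
theorem weight_d {p n : ℕ} (h : HypK K p n) (hq : 2 < p ^ n) (φe φd : K → K)
    (hde : ∀ r s, φe (r + s) = φe r + φe s) (hdd : ∀ r s, φd (r + s) = φd r + φd s)
    (hd : ∀ t : K, t ≠ 0 → ∀ r, φd (t ^ 2 * r) = t * φd r)
    (he : ∀ t : K, t ≠ 0 → ∀ r, φe (t ^ 2 * r) = t * (star t)⁻¹ * φe r)
    (hiso : ∀ r s, r * star (φe s) + φe r * star s + φd r * star (φd s) =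
      s * star (φe r) + φe s * star r + φd s * star (φd r)) :
    (∀ r, φd r = 0) ∧ (p ^ n ≠ 3 → ∀ r, φe r = 0) := by
  have hfin := h.fin
  have hchar := h.char
  have hpp := h.pp
  have hp : Fact p.Prime := ⟨hpp⟩
  have hd0 : φd 0 = 0 := by
    have := hdd 0 0
    rw [add_zero] at this
    exact left_eq_add.1 this
  have he0 : φe 0 = 0 := by
    have := hde 0 0
    rw [add_zero] at this
    exact left_eq_add.1 this
  have hE : p ^ n ≠ 3 → ∀ r, φe r = 0 := by
    intro h3 r
    obtain ⟨t, ht, hts, ht2⟩ := exists_fixed h (by omega)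
    have h1 : ∀ r, φe ((t ^ 2 - 1) * r) = 0 := by
      intro r
      have h2 := hde ((t ^ 2 - 1) * r) r
      have h4 : (t ^ 2 - 1) * r + r = t ^ 2 * r := by ring
      rw [h4, he t ht, hts, mul_inv_cancel₀ ht, one_mul] at h2
      exact right_eq_add.1 h2
    have h5 := h1 ((t ^ 2 - 1)⁻¹ * r)
    rwa [mul_inv_cancel_left₀ (sub_ne_zero.2 ht2)] at h5
  refine ⟨?_, hE⟩
  by_cases hp2 : p = 2
  · -- characteristic two
    subst hp2
    have hφe := hE (by
      intro h3
      have hn := h.hn
      have : 2 ∣ 3 := by rw [← h3]; exact dvd_pow_self 2 (by omega)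
      omega)
    by_contra hcon
    push Not at hcon
    obtain ⟨r0, hr0⟩ := hcon
    have hr00 : r0 ≠ 0 := by
      rintro rfl
      exact hr0 hd0
    -- `φd` is injective
    have hinj : Function.Injective φd := by
      intro x y hxy
      by_contra hne
      have h1 : φd (x - y) = 0 := by
        have h2 := hdd (x - y) y
        rw [sub_add_cancel, hxy] at h2
        exact right_eq_add.1 h2
      have h3 : x - y ≠ 0 := sub_ne_zero.2 hne
      -- `r0 = t ^ 2 (x - y)`
      have hsq : Function.Surjective (fun z : K => z ^ 2) := by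
        have : Function.Injective (fun z : K => z ^ 2) := by
          intro a b hab
          exact frobenius_inj K 2 hab
        exact Finite.surjective_of_injective this
      obtain ⟨t, ht⟩ := hsq (r0 * (x - y)⁻¹)
      have ht0 : t ≠ 0 := by
        rintro rfl
        simp only [ne_eq, OfNat.ofNat_ne_zero, not_false_eq_true, zero_pow] at ht
        exact mul_ne_zero hr00 (inv_ne_zero h3) ht.symm
      have h4 := hd t ht0 (x - y)
      have ht' : t ^ 2 = r0 * (x - y)⁻¹ := ht
      rw [ht', mul_assoc, inv_mul_cancel₀ h3, mul_one, h1, mul_zero] at h4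
      exact hr0 h4
    have hsur := Finite.surjective_of_injective hinj
    obtain ⟨x, hx⟩ := exists_star_ne h
    obtain ⟨r, hr⟩ := hsur 1
    obtain ⟨s, hs⟩ := hsur x
    have h1 := hiso r s
    rw [hφe, hφe, hr, hs, star_zero, star_one] at h1
    apply hx
    linear_combination h1
  · -- odd characteristic
    intro r
    have h1 := hd (-1) (neg_ne_zero.2 one_ne_zero) r
    rw [neg_one_sq, one_mul, neg_one_mul] at h1
    have h2 : (2 : K) * φd r = 0 := by linear_combination h1
    rcases mul_eq_zero.1 h2 with h3 | h3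
    · exfalso
      have h4 : ((2 : ℕ) : K) = 0 := by exact_mod_cast h3
      rw [CharP.cast_eq_zero_iff K p] at h4
      exact hp2 ((Nat.prime_dvd_prime_iff_eq hpp Nat.prime_two).1 h4)
    · exact h3

/-- the weight lemma for `q = 3` -/
theorem weight_e3 {p n : ℕ} (h : HypK K p n) (hq : p ^ n = 3) (φe : K → K)
    (hde : ∀ r s, φe (r + s) = φe r + φe s)
    (he : ∀ t : K, t ≠ 0 → ∀ r, φe (t ^ 2 * r) = t * (star t)⁻¹ * φe r)
    {x1 x2 : K} (h1 : x1 * star x1 = 1) (h2 : x2 * star x2 ≠ 1) (h20 : x2 ≠ 0)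
    (hx : ∀ r, φe (x1 * x2⁻¹ * r) = x1 * star x2 * φe r) (r : K) : φe r = 0 := by
  have hfin := h.fin
  have hn := h.hn
  have hp3 : p = 3 := by
    have h3 : p ∣ 3 := by rw [← hq]; exact dvd_pow_self p (by omega)
    exact (Nat.prime_dvd_prime_iff_eq h.pp Nat.prime_three).1 h3
  subst hp3
  have hchar := h.char
  have hst : ∀ x : K, star x = x ^ 3 := fun x => by rw [h.star_eq, hq]
  let _ : Fintype K := Fintype.ofFinite K
  have hF : Fintype.card K = 9 := by rw [← Nat.card_eq_fintype_card, h.card, hq]; norm_num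
  have h8 : ∀ a : K, a ≠ 0 → a ^ 8 = 1 := by
    intro a ha
    have := FiniteField.pow_card_sub_one_eq_one a ha
    rwa [hF] at this
  have he0 : φe 0 = 0 := by
    have := hde 0 0
    rw [add_zero] at this
    exact left_eq_add.1 this
  have hsq : ∀ a : K, φe (a ^ 2) = φe 1 * (a ^ 2) ^ 3 := by
    intro a
    by_cases ha : a = 0
    · rw [ha]
      simp [he0]
    · have h3 := he a ha 1
      rw [mul_one, hst] at h3
      rw [h3]
      have h4 := h8 a ha
      field_simp
      linear_combination (-φe 1) * h4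
  have hall : ∀ r : K, φe r = φe 1 * r ^ 3 := by
    intro r
    obtain ⟨a, b, hab⟩ := FiniteField.exists_root_sum_quadratic (R := K) (f := Polynomial.X ^ 2)
      (g := Polynomial.X ^ 2 - Polynomial.C r) (Polynomial.degree_X_pow 2)
      (Polynomial.degree_X_pow_sub_C (by norm_num) r) (by rw [hF])
    simp only [Polynomial.eval_pow, Polynomial.eval_X, Polynomial.eval_sub, Polynomial.eval_C] at hab
    have h3 : r = a ^ 2 + b ^ 2 := by linear_combination -hab
    rw [h3, hde, hsq, hsq, add_pow_char]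
    ring
  by_cases hc : φe 1 = 0
  · rw [hall, hc, zero_mul]
  · exfalso
    have h3 := hx 1
    rw [mul_one, hall (x1 * x2⁻¹), hst] at h3
    rw [hst] at h1 h2
    have h10 : x1 ≠ 0 := left_ne_zero_of_mul_eq_one h1
    have h4 : (x1 * x2⁻¹) ^ 3 = x1 * x2 ^ 3 := mul_left_cancel₀ hc (by rw [h3]; ring)
    have h6 : x1 ^ 2 = x2 ^ 6 := by
      field_simp at h4
      linear_combination h4
    apply h2
    have h7 := h8 x2 h20
    calc x2 * x2 ^ 3 = x2 ^ 4 * 1 := by ring
      _ = x2 ^ 4 * x2 ^ 8 := by rw [h7]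
      _ = (x2 ^ 6) ^ 2 := by ring
      _ = (x1 ^ 2) ^ 2 := by rw [h6]
      _ = x1 * x1 ^ 3 := by ring
      _ = 1 := h1

end Cfsg.Agent.H302.PU
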